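import Groth.Agent.DerLib.KInjEnough
import Groth.Agent.DerLib.KInjDerived
import Mathlib.Algebra.Homology.DerivedCategory.ExactFunctor

/-!
# Composites of derived functors
-/

set_option autoImplicit false
set_option linter.all false
set_option backward.isDefEq.respectTransparency false
set_option backward.isDefEq.respectTransparency.types false
set_option maxHeartbeats 1000000

open CategoryTheory CategoryTheory.Limits Groth.Agent.DerLib

noncomputable section

namespace EtShriekBcLib

universe v₁ v₂ v₃ v₄ u₁ u₂ u₃ u₄ w₁ w₂ w₃ w₄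

variable {A : Type u₁} [Category.{v₁} A] [Abelian A] [HasDerivedCategory.{w₁} A]
  {B : Type u₂} [Category.{v₂} B] [Abelian B] [HasDerivedCategory.{w₂} B]
  {D : Type u₃} [Category.{v₃} D] [Abelian D] [HasDerivedCategory.{w₃} D]
  {E : Type u₄} [Category.{v₄} E] [Abelian E] [HasDerivedCategory.{w₄} E]

/-- Natural isomorphisms of functors on the derived category from the category of complexes. -/
theorem nonempty_lift {T : Type*} [Category T] (F₁ F₂ : DerivedCategory A ⥤ T)
    (e : DerivedCategory.Q ⋙ F₁ ≅ DerivedCategory.Q ⋙ F₂) : Nonempty (F₁ ≅ F₂) :=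
  letI : Localization.Lifting DerivedCategory.Q (HomologicalComplex.quasiIso A (ComplexShape.up ℤ))
    (DerivedCategory.Q ⋙ F₁) F₁ := ⟨Iso.refl _⟩
  letI : Localization.Lifting DerivedCategory.Q (HomologicalComplex.quasiIso A (ComplexShape.up ℤ))
    (DerivedCategory.Q ⋙ F₂) F₂ := ⟨Iso.refl _⟩
  ⟨Localization.liftNatIso DerivedCategory.Q (HomologicalComplex.quasiIso A (ComplexShape.up ℤ))
    (DerivedCategory.Q ⋙ F₁) (DerivedCategory.Q ⋙ F₂) F₁ F₂ e⟩

/-- The derived functor of a composite of exact functors. -/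
def exactCompQ (G₁ : A ⥤ B) (G₂ : B ⥤ E) [G₁.Additive] [G₂.Additive] [PreservesFiniteLimits G₁]
    [PreservesFiniteColimits G₁] [PreservesFiniteLimits G₂] [PreservesFiniteColimits G₂] :
    DerivedCategory.Q ⋙ G₁.mapDerivedCategory ⋙ G₂.mapDerivedCategory ≅
      G₁.mapHomologicalComplex (ComplexShape.up ℤ) ⋙ G₂.mapHomologicalComplex (ComplexShape.up ℤ) ⋙
        DerivedCategory.Q :=
  (Functor.associator _ _ _).symm ≪≫ Functor.isoWhiskerRight G₁.mapDerivedCategoryFactors _ ≪≫
    Functor.associator _ _ _ ≪≫ Functor.isoWhiskerLeft _ G₂.mapDerivedCategoryFactors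

theorem nonempty_exact_square (G₁ : A ⥤ B) (G₂ : B ⥤ E) (G₃ : A ⥤ D) (G₄ : D ⥤ E) [G₁.Additive] [G₂.Additive]
    [G₃.Additive] [G₄.Additive] [PreservesFiniteLimits G₁] [PreservesFiniteColimits G₁] [PreservesFiniteLimits G₂]
    [PreservesFiniteColimits G₂] [PreservesFiniteLimits G₃] [PreservesFiniteColimits G₃] [PreservesFiniteLimits G₄]
    [PreservesFiniteColimits G₄] (η : G₁ ⋙ G₂ ≅ G₃ ⋙ G₄) :
    Nonempty (G₁.mapDerivedCategory ⋙ G₂.mapDerivedCategory ≅ G₃.mapDerivedCategory ⋙ G₄.mapDerivedCategory) := by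
  let η' : G₁.mapHomologicalComplex (ComplexShape.up ℤ) ⋙ G₂.mapHomologicalComplex (ComplexShape.up ℤ) ≅
      G₃.mapHomologicalComplex (ComplexShape.up ℤ) ⋙ G₄.mapHomologicalComplex (ComplexShape.up ℤ) :=
    NatIso.ofComponents (fun K => HomologicalComplex.Hom.isoOfComponents (fun i => η.app (K.X i))
      fun i j _ => (η.hom.naturality (K.d i j)).symm) fun f => by ext i; exact η.hom.naturality (f.f i)
  exact nonempty_lift _ _ (exactCompQ G₁ G₂ ≪≫ (Functor.associator _ _ _).symm ≪≫
    Functor.isoWhiskerRight η' _ ≪≫ Functor.associator _ _ _ ≪≫ (exactCompQ G₃ G₄).symm)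

/-- The image of a K-injective complex by a functor with exact left adjoint is K-injective. -/
theorem isKInjective_map {L : B ⥤ A} {R : A ⥤ B} (adj : L ⊣ R) [L.Additive] [R.Additive] [PreservesFiniteLimits L]
    [PreservesFiniteColimits L] (I : CochainComplex A ℤ) [I.IsKInjective] :
    CochainComplex.IsKInjective ((R.mapHomologicalComplex (ComplexShape.up ℤ)).obj I) := by
  refine ⟨fun {K} f hK => ⟨HomotopyCategory.homotopyOfEq _ _ ?_⟩⟩
  haveI : L.PreservesHomology := inferInstance
  let a := KInjDerived.mapHomotopyCategoryAdj adj (ComplexShape.up ℤ)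
  let q := HomotopyCategory.quotient B (ComplexShape.up ℤ)
  let φ : q.obj K ⟶ (R.mapHomotopyCategory (ComplexShape.up ℤ)).obj ((HomotopyCategory.quotient A _).obj I) := q.map f
  have h0 : (a.homEquiv _ _).symm φ = 0 :=
    (CochainComplex.IsKInjective.rightOrthogonal I) _
      ((HomotopyCategory.quotient_obj_mem_subcategoryAcyclic_iff_acyclic _).2 fun i => (hK i).map L)
  have h1 : φ = 0 := by
    rw [← (a.homEquiv _ _).apply_symm_apply φ, h0, Adjunction.homEquiv_unit, Functor.map_zero, comp_zero]
  rw [Functor.map_zero]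
  exact h1

variable (G : A ⥤ B) (F : B ⥤ D) (H : A ⥤ D) [G.Additive] [F.Additive] [H.Additive]
  (RF : DerivedCategory B ⥤ DerivedCategory D)
  (αF : F.mapHomotopyCategory (ComplexShape.up ℤ) ⋙ DerivedCategory.Qh ⟶ DerivedCategory.Qh ⋙ RF)

/-- Derived functors of composites: an exact functor followed by a derived functor. -/
theorem nonempty_exact_comp_derived [H.Additive] [PreservesFiniteLimits G] [PreservesFiniteColimits G]
    [PreservesFiniteLimits H] [PreservesFiniteColimits H] (e : G ⋙ F ≅ H)
    (h : ∀ K : CochainComplex A ℤ, IsIso (αF.app ((HomotopyCategory.quotient B (ComplexShape.up ℤ)).obj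
      ((G.mapHomologicalComplex (ComplexShape.up ℤ)).obj K)))) :
    Nonempty (G.mapDerivedCategory ⋙ RF ≅ H.mapDerivedCategory) := by
  let up := ComplexShape.up ℤ
  let β : F.mapHomologicalComplex up ⋙ DerivedCategory.Q ⟶ DerivedCategory.Q ⋙ RF :=
    Functor.whiskerLeft (F.mapHomologicalComplex up) (DerivedCategory.quotientCompQhIso D).inv ≫
      Functor.whiskerLeft (HomotopyCategory.quotient B up) αF ≫
        Functor.whiskerRight (DerivedCategory.quotientCompQhIso B).hom RF
  haveI : ∀ K, IsIso ((Functor.whiskerLeft (G.mapHomologicalComplex up) β).app K) := fun K => by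
    haveI := h K
    simp only [β, Functor.whiskerLeft_app, NatTrans.comp_app, Functor.whiskerRight_app]
    infer_instance
  haveI := NatIso.isIso_of_isIso_app (Functor.whiskerLeft (G.mapHomologicalComplex up) β)
  let e' : G.mapHomologicalComplex up ⋙ F.mapHomologicalComplex up ≅ H.mapHomologicalComplex up :=
    NatIso.ofComponents (fun K => HomologicalComplex.Hom.isoOfComponents (fun i => e.app (K.X i))
      fun i j _ => (e.hom.naturality (K.d i j)).symm) fun f => by ext i; exact e.hom.naturality (f.f i)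
  exact nonempty_lift _ _ ((Functor.associator _ _ _).symm ≪≫ Functor.isoWhiskerRight G.mapDerivedCategoryFactors RF ≪≫
    Functor.associator _ _ _ ≪≫ (asIso (Functor.whiskerLeft (G.mapHomologicalComplex up) β)).symm ≪≫
    (Functor.associator _ _ _).symm ≪≫ Functor.isoWhiskerRight e' _ ≪≫ H.mapDerivedCategoryFactors.symm)

variable [IsGrothendieckAbelian.{v₁} A] [IsGrothendieckAbelian.{v₂} B]
  (RG : DerivedCategory A ⥤ DerivedCategory B)
  (αG : G.mapHomotopyCategory (ComplexShape.up ℤ) ⋙ DerivedCategory.Qh ⟶ DerivedCategory.Qh ⋙ RG)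
  (RH : DerivedCategory A ⥤ DerivedCategory D)
  (αH : H.mapHomotopyCategory (ComplexShape.up ℤ) ⋙ DerivedCategory.Qh ⟶ DerivedCategory.Qh ⋙ RH)
  [RF.IsRightDerivedFunctor αF (HomotopyCategory.quasiIso B (ComplexShape.up ℤ))]
  [RG.IsRightDerivedFunctor αG (HomotopyCategory.quasiIso A (ComplexShape.up ℤ))]
  [RH.IsRightDerivedFunctor αH (HomotopyCategory.quasiIso A (ComplexShape.up ℤ))]

include αF αG αH in
/-- Derived functors of composites of right adjoints. -/
theorem nonempty_derived_comp {L : B ⥤ A} (adj : L ⊣ G) [L.Additive] [PreservesFiniteLimits L]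
    [PreservesFiniteColimits L] (e : G ⋙ F ≅ H) : Nonempty (RG ⋙ RF ≅ RH) := by
  let up := ComplexShape.up ℤ
  let γ : H.mapHomotopyCategory up ⋙ DerivedCategory.Qh ⟶ DerivedCategory.Qh ⋙ (RG ⋙ RF) :=
    Functor.whiskerRight (Functor.mapHomotopyCategoryCompIso e up).inv _ ≫ (Functor.associator _ _ _).hom ≫
      Functor.whiskerLeft (G.mapHomotopyCategory up) αF ≫ (Functor.associator _ _ _).inv ≫
        Functor.whiskerRight αG RF ≫ (Functor.associator _ _ _).hom
  haveI : (RG ⋙ RF).IsRightDerivedFunctor γ (HomotopyCategory.quasiIso A up) :=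
    KInjDerived.isRightDerivedFunctor_of_isIso _ γ (KInjDerived.enoughKInj A) fun I _ => by
      haveI := isKInjective_map adj I
      haveI : IsIso (αF.app ((G.mapHomotopyCategory up).obj ((HomotopyCategory.quotient A up).obj I))) :=
        KInjDerived.isIso_app RF αF (KInjDerived.enoughKInj B) ((G.mapHomologicalComplex up).obj I)
      haveI := KInjDerived.isIso_app RG αG (KInjDerived.enoughKInj A) I
      simp only [γ, NatTrans.comp_app, Functor.whiskerRight_app, Functor.whiskerLeft_app,
        Functor.associator_hom_app, Functor.associator_inv_app]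
      infer_instance
  exact ⟨Functor.rightDerivedUnique _ _ γ αH (HomotopyCategory.quasiIso A up)⟩

end EtShriekBcLib

end
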