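import Groth.Agent.EtShriekBcLib.Dom
import Groth.Agent.EtShriekBcLib.Derived
import Groth.Agent.EtDlUnbLib.Main
import Groth.Agent.EtModUnbLib.Bc
import Groth.Agent.NagataCompLib.Tools

/-!
# Direct images with proper support of modules: independence of the compactification and base change
-/

set_option autoImplicit false
set_option linter.all false
set_option backward.isDefEq.respectTransparency false
set_option backward.isDefEq.respectTransparency.types false
set_option synthInstance.maxHeartbeats 400000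
set_option maxHeartbeats 2000000

universe u

open CategoryTheory CategoryTheory.Limits AlgebraicGeometry Opposite
open Groth.Agent Groth.Agent.EtShLib

attribute [local instance] HasDerivedCategory.standard

noncomputable section

namespace EtShriekBcLib

variable (Λ : Type (u + 1)) [CommRing Λ]

theorem pfl_pullMod {X Y : Scheme.{u}} (g : X ⟶ Y) : PreservesFiniteLimits (EtModW.pull Λ g) := by
  haveI := EtSliceLib.pullExact g
  haveI := EtModPBCLib.forget_pfl Λ X
  haveI := EtModPBCLib.forget_pfl Λ Y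
  haveI := EtModPBCLib.forget_reflectsIso Λ X
  haveI := fun M => EtModPBCLib.isIso_alpha Λ g M
  let α : EtModD.forgetToAb Λ Y ⋙ EtCoh.pull g ≅ EtModW.pull Λ g ⋙ EtModD.forgetToAb Λ X :=
    NatIso.ofComponents (fun M => asIso (EtModPBCLib.alpha Λ g M)) fun φ => EtModPBCLib.alpha_natural Λ g φ
  haveI : PreservesFiniteLimits (EtModW.pull Λ g ⋙ EtModD.forgetToAb Λ X) := preservesFiniteLimits_of_natIso α
  haveI : ReflectsFiniteLimits (EtModD.forgetToAb Λ X) :=
    ⟨fun J _ _ => reflectsLimitsOfShape_of_reflectsIsomorphisms⟩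
  exact preservesFiniteLimits_of_reflects_of_preserves _ (EtModD.forgetToAb Λ X)

theorem pfc_pullMod {X Y : Scheme.{u}} (g : X ⟶ Y) : PreservesFiniteColimits (EtModW.pull Λ g) :=
  haveI : PreservesColimitsOfSize.{0, 0} (EtModW.pull Λ g) := (EtDl.pullPushModAdj Λ g).leftAdjoint_preservesColimits
  PreservesColimitsOfSize.preservesFiniteColimits _

theorem hasRpushMod {X Y : Scheme.{u}} (g : X ⟶ Y) : EtBC.HasRpushMod Λ g :=
  Groth.Agent.DerLib.KInjDerived.hasRightDerivedFunctor _ (Groth.Agent.DerLib.KInjDerived.enoughKInj _)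

attribute [local instance] pfl_pullMod pfc_pullMod hasRpushMod EtDlUnbLib.preservesFiniteLimits_extZeroMod

abbrev uR {A B : Scheme.{u}} (h : A ⟶ B) :
    EtBC.pushModKh Λ h ⟶ DerivedCategory.Qh ⋙ EtBC.RpushModD Λ h :=
  EtModUnbLib.uM Λ h

theorem nonempty_RpushModD_comp {X Y Z : Scheme.{u}} (f : X ⟶ Y) (g : Y ⟶ Z) (h : X ⟶ Z) (w : f ≫ g = h) :
    Nonempty (EtBC.RpushModD Λ f ⋙ EtBC.RpushModD Λ g ≅ EtBC.RpushModD Λ h) := by
  subst w
  exact nonempty_derived_comp (EtModW.push Λ f) (EtModW.push Λ g) (EtModW.push Λ (f ≫ g)) (EtBC.RpushModD Λ g) (uR Λ g)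
    (EtBC.RpushModD Λ f) (uR Λ f) (EtBC.RpushModD Λ (f ≫ g)) (uR Λ (f ≫ g)) (EtDl.pullPushModAdj Λ f)
    (pushCompMod Λ g f)

variable {n : ℕ} (hn : 0 < n) (hΛ : (n : Λ) = 0)

include hn hΛ

/-- A compactification dominating another one computes the same direct image with proper support. -/
theorem nonempty_dominate {X S : Scheme.{u}} [CompactSpace ↥X] [CompactSpace ↥S] [QuasiSeparatedSpace ↥S]
    {f : X ⟶ S} (c c'' : DEt.Compactification f) [IsDominant c''.j] (π : c''.Xbar ⟶ c.Xbar) [IsProper π]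
    (w₁ : c''.j ≫ π = c.j) (w₂ : π ≫ c.fbar = c''.fbar) :
    Nonempty (EtDlUnbLib.LU (Λ := Λ) c ≅ EtDlUnbLib.LU c'') := by
  haveI := c.isProper
  haveI := c''.isProper
  haveI : CompactSpace ↥c.Xbar := QuasiCompact.compactSpace_of_compactSpace c.fbar
  haveI : CompactSpace ↥c''.Xbar := QuasiCompact.compactSpace_of_compactSpace c''.fbar
  haveI : QuasiSeparatedSpace ↥c.Xbar := quasiSeparatedSpace_of_quasiSeparated c.fbar
  haveI : QuasiSeparatedSpace ↥c''.Xbar := quasiSeparatedSpace_of_quasiSeparated c''.fbar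
  have hsq := isPullback_of_dominant c.j c''.j π w₁
  obtain ⟨e⟩ := nonempty_push_extZeroMod Λ c.j c''.j π hsq hn hΛ
  obtain ⟨a⟩ := nonempty_exact_comp_derived (EtDl.extZeroMod Λ c''.j) (EtModW.push Λ π) (EtDl.extZeroMod Λ c.j)
    (EtBC.RpushModD Λ π) (uR Λ π) e fun K =>
      EtModUnbLib.isIso_unit (EtBC.RpushModD Λ π) (uR Λ π) (EtModUnbLib.exacts_push π hn hΛ) (EtModUnbLib.acy_biprod π)
        (EtModUnbLib.acy_iso π) (EtModUnbLib.acy_injective π) _
        fun i => acy_extZeroMod Λ c.j c''.j π hsq hn hΛ (K.X i)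
  obtain ⟨b⟩ := nonempty_RpushModD_comp Λ π c.fbar c''.fbar w₂
  exact ⟨Functor.isoWhiskerRight a.symm _ ≪≫ Functor.associator _ _ _ ≪≫ Functor.isoWhiskerLeft _ b⟩

/-- Independence of the compactification. -/
theorem nonempty_indep {X S : Scheme.{u}} [CompactSpace ↥X] [QuasiSeparatedSpace ↥X] [CompactSpace ↥S]
    [QuasiSeparatedSpace ↥S] {f : X ⟶ S} (c c' : DEt.Compactification f) :
    Nonempty (EtDlUnbLib.LU (Λ := Λ) c ≅ EtDlUnbLib.LU c') := by
  haveI := c.isProper
  haveI := c'.isProper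
  haveI := c.isOpenImmersion
  haveI : QuasiCompact f := NagataCompLib.quasiCompact_of_compactSpace f
  let γ : X ⟶ pullback c.fbar c'.fbar := pullback.lift c.j c'.j (c.fac.trans c'.fac.symm)
  haveI : QuasiCompact (γ ≫ pullback.fst c.fbar c'.fbar ≫ c.fbar) := by
    rw [pullback.lift_fst_assoc, c.fac]; infer_instance
  haveI : QuasiCompact γ := QuasiCompact.of_comp γ (pullback.fst c.fbar c'.fbar ≫ c.fbar)
  haveI : IsOpenImmersion γ.toImage :=
    NagataCompLib.isOpenImmersion_toImage γ (pullback.fst c.fbar c'.fbar) c.j (pullback.lift_fst _ _ _)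
  let c'' : DEt.Compactification f := ⟨γ.image, γ.toImage, γ.imageι ≫ pullback.fst c.fbar c'.fbar ≫ c.fbar,
    inferInstance, inferInstance, by rw [Scheme.Hom.toImage_imageι_assoc, pullback.lift_fst_assoc, c.fac]⟩
  haveI : IsDominant c''.j := inferInstanceAs (IsDominant γ.toImage)
  obtain ⟨e₁⟩ := nonempty_dominate Λ hn hΛ c c'' (γ.imageι ≫ pullback.fst c.fbar c'.fbar)
    (by
      show γ.toImage ≫ γ.imageι ≫ _ = _
      rw [Scheme.Hom.toImage_imageι_assoc]; exact pullback.lift_fst _ _ _) (Category.assoc _ _ _)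
  obtain ⟨e₂⟩ := nonempty_dominate Λ hn hΛ c' c'' (γ.imageι ≫ pullback.snd c.fbar c'.fbar)
    (by
      show γ.toImage ≫ γ.imageι ≫ _ = _
      rw [Scheme.Hom.toImage_imageι_assoc]; exact pullback.lift_snd _ _ _)
    (by
      show (γ.imageι ≫ pullback.snd c.fbar c'.fbar) ≫ c'.fbar = γ.imageι ≫ pullback.fst c.fbar c'.fbar ≫ c.fbar
      rw [Category.assoc, ← pullback.condition])
  exact ⟨e₁ ≪≫ e₂.symm⟩

/-- Proper base change as a natural isomorphism. -/
theorem nonempty_properBC {X S X' S' : Scheme.{u}} (f : X ⟶ S) [IsProper f] (g : S' ⟶ S) (f' : X' ⟶ S')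
    (g' : X' ⟶ X) (hc : IsPullback g' f' f g) :
    Nonempty (EtBC.RpushModD Λ f ⋙ EtBC.pullModD Λ g ≅ EtBC.pullModD Λ g' ⋙ EtBC.RpushModD Λ f') := by
  let adj := EtModUnbLib.canAdjM Λ g
  haveI := fun K => EtModUnbLib.isIso_bcMapModD Λ f g f' g' hc hn hΛ adj K
  exact ⟨NatIso.ofComponents (fun K => asIso (EtBC.bcMapModD Λ f g f' g' hc.w adj K)) fun {K L} φ => by
    refine (adj.homEquiv_naturality_left_symm _ _).symm.trans
      ((congrArg (adj.homEquiv _ _).symm ?_).trans (adj.homEquiv_naturality_right_symm _ _))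
    exact (EtBC.bcAdjModD Λ f g f' g' hc.w).naturality φ⟩

/-- Base change for direct images with proper support. -/
theorem nonempty_baseChange {X S X' S' : Scheme.{u}} [CompactSpace ↥X'] [QuasiSeparatedSpace ↥X']
    [CompactSpace ↥S'] [QuasiSeparatedSpace ↥S'] {f : X ⟶ S} (c : DEt.Compactification f) {f' : X' ⟶ S'}
    (c' : DEt.Compactification f') (g : S' ⟶ S) (g' : X' ⟶ X) (hc : IsPullback g' f' f g) :
    Nonempty (EtDlUnbLib.LU (Λ := Λ) c ⋙ EtBC.pullModD Λ g ≅ EtBC.pullModD Λ g' ⋙ EtDlUnbLib.LU c') := by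
  haveI := c.isProper
  haveI := c.isOpenImmersion
  let g₁ := pullback.fst c.fbar g
  let fb₁ := pullback.snd c.fbar g
  let j₁ : X' ⟶ pullback c.fbar g := pullback.lift (g' ≫ c.j) f' (by rw [Category.assoc, c.fac, hc.w])
  have hfb₁ : j₁ ≫ fb₁ = f' := pullback.lift_snd _ _ _
  have hsq : IsPullback g' j₁ c.j g₁ :=
    IsPullback.of_bot (by rw [hfb₁, c.fac]; exact hc) (pullback.lift_fst _ _ _).symm (IsPullback.of_hasPullback c.fbar g)
  haveI : IsOpenImmersion j₁ := MorphismProperty.of_isPullback hsq inferInstance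
  let c₁ : DEt.Compactification f' := ⟨pullback c.fbar g, j₁, fb₁, inferInstance, inferInstance, hfb₁⟩
  obtain ⟨e₁⟩ := nonempty_properBC Λ hn hΛ c.fbar g fb₁ g₁ (IsPullback.of_hasPullback c.fbar g)
  obtain ⟨η⟩ := ModGenLib.nonempty_extZeroMod_bc Λ (j := c.j) (f := g₁) (j' := j₁) (f' := g') hsq.flip
  obtain ⟨e₂⟩ := nonempty_exact_square (EtDl.extZeroMod Λ c.j) (EtModW.pull Λ g₁) (EtModW.pull Λ g')
    (EtDl.extZeroMod Λ j₁) η.symm
  obtain ⟨e₃⟩ := nonempty_indep Λ hn hΛ c₁ c'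
  exact ⟨Functor.associator _ _ _ ≪≫ Functor.isoWhiskerLeft _ e₁ ≪≫ (Functor.associator _ _ _).symm ≪≫
    Functor.isoWhiskerRight e₂ _ ≪≫ Functor.associator _ _ _ ≪≫ Functor.isoWhiskerLeft _ e₃⟩

/-- Base change for `Rf_!` on bounded below objects. -/
theorem nonempty_baseChange_plus {X S X' S' : Scheme.{u}} [CompactSpace ↥X'] [QuasiSeparatedSpace ↥X']
    [CompactSpace ↥S'] [QuasiSeparatedSpace ↥S'] {f : X ⟶ S} (c : DEt.Compactification f) {f' : X' ⟶ S'}
    (c' : DEt.Compactification f') (g : S' ⟶ S) (g' : X' ⟶ X) (hc : IsPullback g' f' f g) :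
    Nonempty (EtDl.RshriekPlus Λ c ⋙ EtDl.pullPlus Λ g ≅ EtDl.pullPlus Λ g' ⋙ EtDl.RshriekPlus Λ c') := by
  let up := ComplexShape.up ℤ
  haveI : ∀ {A B : Scheme.{u}} (h : A ⟶ B), (EtModW.pull Λ h).mapDerivedCategory.IsRightDerivedFunctor
      (EtModW.pull Λ h).mapDerivedCategoryFactorsh.inv (HomotopyCategory.quasiIso (EtModW.Mod Λ B) up) := fun h =>
    Functor.isRightDerivedFunctor_of_inverts _ _ (EtModW.pull Λ h).mapDerivedCategoryFactorsh
  obtain ⟨pg⟩ := EtDlUnbLib.nonempty_plus_iota (EtModW.pull Λ g) (EtModW.pull Λ g).mapDerivedCategory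
    (EtModW.pull Λ g).mapDerivedCategoryFactorsh.inv
  obtain ⟨pg'⟩ := EtDlUnbLib.nonempty_plus_iota (EtModW.pull Λ g') (EtModW.pull Λ g').mapDerivedCategory
    (EtModW.pull Λ g').mapDerivedCategoryFactorsh.inv
  obtain ⟨l⟩ := EtDlUnbLib.nonempty_plus_LU (Λ := Λ) c
  obtain ⟨l'⟩ := EtDlUnbLib.nonempty_plus_LU (Λ := Λ) c'
  obtain ⟨b⟩ := nonempty_baseChange Λ hn hΛ c c' g g' hc
  exact ⟨((Functor.whiskeringRight (DerivedCategory.Plus (EtModW.Mod Λ X)) _ _).obj
      (DerivedCategory.Plus.ι (C := EtModW.Mod Λ S'))).preimageIso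
    (Functor.associator _ _ _ ≪≫ Functor.isoWhiskerLeft _ pg ≪≫ (Functor.associator _ _ _).symm ≪≫
      Functor.isoWhiskerRight l _ ≪≫ Functor.associator _ _ _ ≪≫ Functor.isoWhiskerLeft _ b ≪≫
      (Functor.associator _ _ _).symm ≪≫ Functor.isoWhiskerRight pg'.symm _ ≪≫ Functor.associator _ _ _ ≪≫
      Functor.isoWhiskerLeft _ l'.symm ≪≫ (Functor.associator _ _ _).symm)⟩

end EtShriekBcLib

end
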