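import Groth.Agent.EtModPBCLib.Forget
import Groth.Agent.EtModUnbLib.Acy
import Groth.Agent.EtDlUnbLib.ExtZero
import Groth.Agent.EtPBCDLib.BaseChange
import Groth.Agent.ModGenLib.Ext
import Groth.Agent.DescSecLib.Et
import Groth.Agent.S8610

/-!
# Extension by zero of modules and proper morphisms between compactifications
-/

set_option autoImplicit false
set_option linter.all false
set_option backward.isDefEq.respectTransparency false
set_option backward.isDefEq.respectTransparency.types false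
set_option synthInstance.maxHeartbeats 400000
set_option maxHeartbeats 1000000

universe u

open CategoryTheory CategoryTheory.Limits AlgebraicGeometry Opposite
open Groth.Agent Groth.Agent.EtShLib

noncomputable section

namespace EtShriekBcLib

section Formal

variable {A B C : Type*} [Category A] [Category B] [Category C] {L : A ⥤ B} {R : B ⥤ A} (adj : L ⊣ R) (J : C ⥤ A)

/-- A unit between objects of a full subcategory on which the left adjoint is fully faithful is an isomorphism. -/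
theorem isIso_unit_of_ff [J.Full] [(J ⋙ L).Full] [(J ⋙ L).Faithful] (F G : C) (i : J.obj G ≅ R.obj (L.obj (J.obj F))) :
    IsIso (adj.unit.app (J.obj F)) := by
  let η := adj.unit.app (J.obj F)
  have tr : ∀ {H : C} (a : H ⟶ F), adj.homEquiv _ _ (L.map (J.map a)) = J.map a ≫ η := fun a => by
    rw [Adjunction.homEquiv_unit]; exact (adj.unit.naturality (J.map a)).symm
  obtain ⟨a, ha⟩ := (J ⋙ L).map_surjective ((adj.homEquiv _ _).symm i.hom)
  have h1 : J.map a ≫ η = i.hom := by
    rw [← tr a, show L.map (J.map a) = _ from ha]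
    exact (adj.homEquiv _ _).apply_symm_apply _
  obtain ⟨x, hx⟩ := J.map_surjective (η ≫ i.inv ≫ J.map a)
  have h2 : x = 𝟙 F := (J ⋙ L).map_injective ((adj.homEquiv _ _).injective (by
    show adj.homEquiv _ _ (L.map (J.map x)) = adj.homEquiv _ _ (L.map (J.map (𝟙 F)))
    rw [tr, tr, hx, Category.assoc, Category.assoc, h1, Iso.inv_hom_id, Category.comp_id, CategoryTheory.Functor.map_id,
      Category.id_comp]))
  refine ⟨i.inv ≫ J.map a, ?_, ?_⟩
  · rw [← hx, h2, CategoryTheory.Functor.map_id]; rfl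
  · rw [Category.assoc]
    erw [h1]
    exact i.inv_hom_id

end Formal

/-- A dominant open immersion between compactifications is cartesian over the open. -/
theorem isPullback_of_dominant {X P P'' : Scheme.{u}} (j : X ⟶ P) [IsOpenImmersion j] (j'' : X ⟶ P'')
    [IsOpenImmersion j''] [IsDominant j''] (π : P'' ⟶ P) [IsSeparated π] (w : j'' ≫ π = j) :
    IsPullback (𝟙 X) j'' j π := by
  let s : X ⟶ pullback j π := pullback.lift (𝟙 X) j'' (by rw [Category.id_comp, w])
  have h1 : s ≫ pullback.fst j π = 𝟙 X := pullback.lift_fst _ _ _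
  have h2 : s ≫ pullback.snd j π = j'' := pullback.lift_snd _ _ _
  haveI : IsOpenImmersion (s ≫ pullback.snd j π) := by rw [h2]; infer_instance
  haveI : IsOpenImmersion s := IsOpenImmersion.of_comp s (pullback.snd j π)
  haveI : IsClosedImmersion (s ≫ pullback.fst j π) := by rw [h1]; infer_instance
  haveI : IsClosedImmersion s := IsClosedImmersion.of_comp s (pullback.fst j π)
  have hs : Function.Surjective s.base := by
    have hd : Dense (Set.range j''.base) := j''.denseRange
    have hr : Set.range j''.base = (pullback.snd j π).base '' Set.range s.base := by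
      rw [← h2, ← Set.range_comp]
      rfl
    rw [← Set.range_eq_univ, ← s.isClosedEmbedding.isClosed_range.closure_eq]
    refine Set.eq_univ_of_forall fun z => ?_
    have he := (pullback.snd j π).isOpenEmbedding
    rw [he.isInducing.closure_eq_preimage_closure_image, Set.mem_preimage, ← hr, hd.closure_eq]
    trivial
  haveI : Surjective s := ⟨hs⟩
  haveI : IsIso s := (isIso_iff_isOpenImmersion_and_epi_base s).2 ⟨inferInstance, (TopCat.epi_iff_surjective _).2 hs⟩
  exact IsPullback.of_iso_pullback ⟨by rw [Category.id_comp, w]⟩ (asIso s) h1 h2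

/-- Inverse image along the identity, for abelian sheaves. -/
def pullIdAb (X : Scheme.{u}) : EtCoh.pull (𝟙 X) ≅ 𝟭 (EtCoh.Ab X) :=
  Adjunction.leftAdjointUniq (EtCoh.pullPushAdj (𝟙 X))
    ((Adjunction.id (C := EtCoh.Ab X)).ofNatIsoRight (DescSecLib.etPid X))

variable (Λ : Type (u + 1)) [CommRing Λ]

/-- Direct image along the identity, for sheaves of modules. -/
def pushIdMod (X : Scheme.{u}) : EtModW.push Λ (𝟙 X) ≅ 𝟭 (EtModW.Mod Λ X) :=
  Functor.sheafPushforwardContinuousId'
    (NatIso.ofComponents (DescSecLib.bcIdIso X) fun i => DescSecLib.bcIdIso_naturality X i :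
      EtCoh.bc (𝟙 X) ≅ 𝟭 X.Etale) _ _

/-- Inverse image along the identity, for sheaves of modules. -/
def pullIdMod (X : Scheme.{u}) : EtModW.pull Λ (𝟙 X) ≅ 𝟭 (EtModW.Mod Λ X) :=
  Adjunction.leftAdjointUniq (EtSix.pullPushModAdj Λ (𝟙 X))
    ((Adjunction.id (C := EtModW.Mod Λ X)).ofNatIsoRight (pushIdMod Λ X).symm)

/-- Composition of direct images of sheaves of modules. -/
def pushCompMod {X Y Z : Scheme.{u}} (f : X ⟶ Y) (g : Z ⟶ X) :
    EtModW.push Λ g ⋙ EtModW.push Λ f ≅ EtModW.push Λ (g ≫ f) :=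
  Functor.sheafPushforwardContinuousComp' (F := EtCoh.bc f) (G := EtCoh.bc g) (FG := EtCoh.bc (g ≫ f))
    ((MorphismProperty.Over.pullbackComp (P := EtCoh.etaleMP) (Q := ⊤) g f).symm :
      EtCoh.bc f ⋙ EtCoh.bc g ≅ EtCoh.bc (g ≫ f))
    (ModuleCat.{u + 1} Λ) Y.smallEtaleTopology X.smallEtaleTopology Z.smallEtaleTopology

variable {X P P'' : Scheme.{u}} [CompactSpace ↥P] [QuasiSeparatedSpace ↥P] [CompactSpace ↥P''] [QuasiSeparatedSpace ↥P'']
  [CompactSpace ↥X] (j : X ⟶ P) [IsOpenImmersion j] (j'' : X ⟶ P'') [IsOpenImmersion j''] (π : P'' ⟶ P) [IsProper π]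
  (hsq : IsPullback (𝟙 X) j'' j π)

include hsq

theorem isIso_unit_extZero (F : EtCoh.Ab X) (hF : EtCoh.IsTorsion F) :
    IsIso ((EtCoh.pullPushAdj π).unit.app ((EtShriek.extZero j).obj F)) := by
  obtain ⟨η⟩ := EtPBCDLib.exists_shriekBC j π j'' (𝟙 X) hsq
  haveI := fun G => EtShLib.isIso_unit j G
  haveI := fun G => EtShLib.isIso_unit j'' G
  haveI := NatIso.isIso_of_isIso_app (EtShriek.extZeroAdj j).unit
  haveI := NatIso.isIso_of_isIso_app (EtShriek.extZeroAdj j'').unit
  let e : EtShriek.extZero j'' ≅ EtShriek.extZero j ⋙ EtCoh.pull π :=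
    (Functor.leftUnitor _).symm ≪≫ Functor.isoWhiskerRight (pullIdAb X).symm _ ≪≫ η
  haveI := (EtShriek.extZeroAdj j).fullyFaithfulLOfIsIsoUnit.full
  haveI := (EtShriek.extZeroAdj j'').fullyFaithfulLOfIsIsoUnit.full
  haveI := (EtShriek.extZeroAdj j'').fullyFaithfulLOfIsIsoUnit.faithful
  haveI := Functor.Full.of_iso e
  haveI := Functor.Faithful.of_iso e
  obtain ⟨i⟩ := (Groth.Agent.S8610.result j j'' π hsq F hF).1
  exact isIso_unit_of_ff (EtCoh.pullPushAdj π) (EtShriek.extZero j) F F (i.symm ≪≫ (EtCoh.push π).mapIso (e.app F))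

theorem isIso_unit_extZeroMod {n : ℕ} (hn : 0 < n) (hΛ : (n : Λ) = 0) (M : EtModW.Mod Λ X) :
    IsIso ((EtSix.pullPushModAdj Λ π).unit.app ((EtDl.extZeroMod Λ j).obj M)) := by
  obtain ⟨e⟩ := EtDlUnbLib.nonempty_forget_extZero Λ j
  haveI := EtModPBCLib.forget_reflectsIso Λ P
  let M' := (EtDl.extZeroMod Λ j).obj M
  haveI := isIso_unit_extZero j j'' π hsq _
    (EtModUnbLib.isTorsion_of_nsmul_id hn (EtModUnbLib.nsmul_id_forget hΛ M))
  haveI : IsIso ((EtCoh.pullPushAdj π).unit.app ((EtModD.forgetToAb Λ P).obj M')) :=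
    (NatTrans.isIso_app_iff_of_iso (EtCoh.pullPushAdj π).unit (e.app M)).1 ‹_›
  haveI := EtModPBCLib.isIso_alpha Λ π M'
  haveI : IsIso ((EtModD.forgetToAb Λ P).map ((EtSix.pullPushModAdj Λ π).unit.app M')) :=
    EtModPBCLib.unit_alpha Λ π M' ▸ inferInstance
  exact isIso_of_reflects_iso _ (EtModD.forgetToAb Λ P)

/-- Direct image of an extension by zero along a proper morphism of compactifications, naturally. -/
theorem nonempty_push_extZeroMod {n : ℕ} (hn : 0 < n) (hΛ : (n : Λ) = 0) :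
    Nonempty (EtDl.extZeroMod Λ j'' ⋙ EtModW.push Λ π ≅ EtDl.extZeroMod Λ j) := by
  obtain ⟨η⟩ := ModGenLib.nonempty_extZeroMod_bc Λ (j := j) (f := π) (j' := j'') (f' := 𝟙 X) hsq.flip
  haveI := fun M => isIso_unit_extZeroMod Λ j j'' π hsq hn hΛ M
  let u : EtDl.extZeroMod Λ j ≅ EtDl.extZeroMod Λ j ⋙ EtModW.pull Λ π ⋙ EtModW.push Λ π :=
    NatIso.ofComponents (fun M => asIso ((EtSix.pullPushModAdj Λ π).unit.app ((EtDl.extZeroMod Λ j).obj M)))
      fun f => (EtSix.pullPushModAdj Λ π).unit.naturality _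
  exact ⟨Functor.isoWhiskerRight ((Functor.leftUnitor _).symm ≪≫
    Functor.isoWhiskerRight (pullIdMod Λ X).symm _ ≪≫ η) _ ≪≫ Functor.associator _ _ _ ≪≫ u.symm⟩

omit [CommRing Λ] in
theorem acy_extZero (F : EtCoh.Ab X) (hF : EtCoh.IsTorsion F) (q : ℕ) (hq : 0 < q) :
    IsZero ((EtCoh.Rpush π q).obj ((EtShriek.extZero j'').obj F)) :=
  (Groth.Agent.S8610.result j j'' π hsq F hF).2 q hq

theorem acy_extZeroMod {n : ℕ} (hn : 0 < n) (hΛ : (n : Λ) = 0) (M : EtModW.Mod Λ X) :
    EtModUnbLib.acy Λ π ((EtDl.extZeroMod Λ j'').obj M) := by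
  intro q hq
  obtain ⟨e⟩ := EtDlUnbLib.nonempty_forget_extZero Λ j''
  exact (acy_extZero j j'' π hsq _ (EtModUnbLib.isTorsion_of_nsmul_id hn (EtModUnbLib.nsmul_id_forget hΛ M)) q hq).of_iso
    ((EtCoh.Rpush π q).mapIso (e.app M).symm)

end EtShriekBcLib

end
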